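import Cfsg.Agent.H80.Alt.Checks
import Cfsg.Agent.H80.M12.Checks

/-!
Normal forms for the four possible groups of order 192: an element is coded by
`i + 4 * j + 16 * σ + 32 * n + 96 * p`, standing for `A i * B j * s ^ σ * x ^ n * g ^ p`.
-/

set_option autoImplicit false
set_option maxRecDepth 20000

namespace Cfsg.Agent.H80.Types

open Cfsg.Agent.H16

/-- sign of a product of two quaternion units -/
noncomputable def coc (i k : Nat) : Nat := bitField 50848 (4 * i + k) 1

/-- product in the core -/
noncomputable def qmul (q r : Nat) : Nat :=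
  Nat.xor (q % 4) (r % 4) + 4 * Nat.xor (q / 4 % 4) (r / 4 % 4) +
    16 * ((q / 16 + r / 16 + coc (q % 4) (r % 4) + coc (q / 4 % 4) (r / 4 % 4)) % 2)

/-- indicator of a nonidentity unit -/
noncomputable def nz (i : Nat) : Nat := bitField 14 i 1

/-- the element of order three on the first factor -/
noncomputable def pX (i : Nat) : Nat := bitField 120 (2 * i) 2

/-- the element of order three on the second factor -/
noncomputable def pY (sw : Bool) (j : Nat) : Nat :=
  Bool.rec (bitField 120 (2 * j) 2) (bitField 156 (2 * j) 2) sw

/-- the inverting element on one factor, when it normalises both -/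
noncomputable def pG (i : Nat) : Nat := bitField 180 (2 * i) 2

/-- action of the element of order three on the core -/
noncomputable def xq (sw : Bool) (q : Nat) : Nat :=
  pX (q % 4) + 4 * pY sw (q / 4 % 4) + 16 * (q / 16)

/-- action of the inverting element on the core -/
noncomputable def gq (sw : Bool) (q : Nat) : Nat :=
  Bool.rec (pG (q % 4) + 4 * pG (q / 4 % 4) + 16 * ((q / 16 + nz (q % 4) + nz (q / 4 % 4)) % 2))
    (q / 4 % 4 + 4 * (q % 4) + 16 * (q / 16)) sw

/-- action of `g ^ p` on the core -/
noncomputable def gqP (sw : Bool) (p q : Nat) : Nat :=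
  Bool.rec (gq sw q) q (Nat.beq p 0)

/-- action of `x ^ n` on the core -/
noncomputable def xqN (sw : Bool) (n q : Nat) : Nat :=
  Bool.rec (Bool.rec (xq sw (xq sw q)) (xq sw q) (Nat.beq n 1)) q (Nat.beq n 0)

/-- exponent of `x` in a product -/
noncomputable def expX (n p m : Nat) : Nat :=
  Bool.rec ((n + 2 * m) % 3) ((n + m) % 3) (Nat.beq p 0)

/-- product of two codes -/
noncomputable def mulC (sw : Bool) (eps u v : Nat) : Nat :=
  qmul (qmul (u % 32) (xqN sw (u / 32 % 3) (gqP sw (u / 96) (v % 32))))
      (16 * (eps * (u / 96) * (v / 96) % 2)) +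
    32 * expX (u / 32 % 3) (u / 96) (v / 32 % 3) + 96 * ((u / 96 + v / 96) % 2)

theorem qmul_bound_chk : allFrom (fun q => allFrom (fun r =>
    Nat.ble (Nat.succ (qmul q r)) 32) 32 0) 32 0 = true := by
  decide +kernel

theorem act_bound_chk : allFrom (fun q => Nat.ble (Nat.succ (xq true q)) 32 &&
    Nat.ble (Nat.succ (xq false q)) 32 && Nat.ble (Nat.succ (gq true q)) 32 &&
    Nat.ble (Nat.succ (gq false q)) 32) 32 0 = true := by
  decide +kernel

/-- codes of the table elements, fixed point free type -/
def altW : Nat :=
  0x6136673181d7d7886982638939d3d33465da6bd5358b8b30d08686d031663768d83232d889628364843a3a84d56adb6697c091c727717124952a9b25c57b7bc899729379c92323c676202076c790c19474caca74259a2b9828c2c22879927392f318f91343a9a94afb44f54b1ba5a510f1a6f7a111474712a24848a213f819faaa1414aa4bf445f040161640a1f6a7fb0ab504baea5454e302e908e2b25858b706510056b6e0e0bb5be5e55bba05b40353b9b953e209e807e7b1b1e75601500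

/-- table elements of the codes, fixed point free type -/
def altV : Nat :=
  0x3a16ac80135268a981901756a884532f572b916d2e3f85946cad2a3b95693e124009b27b0d5962b67e9a0c58b37a5c255d249f6620447f9b63b721459e6741083007b98e064c72b88aa00349bc8b481f4d1aa4731b318fa577bd1e34a17635023815ae8311516aaa82921454ab86502d5528936e2c3c87976faf2939966b3d10420bb1780e5a60b47c980f5bb0795e275f269c6523477d9961b522469d64430a3204ba8c054e70bb89a2014abe884b1d4f19a77118338da674bf1c37a3753600

/-- codes of the table elements, twelve letters type -/
def m12W : Nat :=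
  0x7f5fbf3f9f1f7e5ebe3e9e1e7d5dbd3d9d1d7c5cbc3c9c1c6f4faf2f8f0f6e4eae2e8e0e6d4dad2d8d0d6c4cac2c8c0c7b5bbb3b9b1b7a5aba3a9a1a7959b93999197858b83898186b4bab2b8b0b6a4aaa2a8a0a6949a92989096848a82888087757b73797177656b63696167555b53595157454b43494146747a72787076646a62686066545a52585056444a42484047353b33393137252b23292127151b13191117050b03090106343a32383036242a22282026141a12181016040a0208000

/-- table elements of the codes, twelve letters type -/
def m12V : Nat :=
  0xbdb7b1ab8d87817b5d57514b2d27211ba59f9993756f6963453f3933150f0903bbb5afa98b857f795b554f492b251f19a39d9791736d6761433d3731130d0701bfb9b3ad8f89837d5f59534d2f29231da7a19b9577716b6547413b3517110b05beb8b2ac8e88827c5e58524c2e28221ca6a09a9476706a6446403a3416100a04bcb6b0aa8c86807a5c56504a2c26201aa49e9892746e6862443e3832140e0802bab4aea88a847e785a544e482a241e18a29c9690726c6660423c3630120c0600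

/-- a packed map -/
noncomputable def app (tab a : Nat) : Nat := bitField tab (8 * a) 8

theorem alt_table_chk : allFrom (fun a => Nat.ble (Nat.succ (app altW a)) 192 &&
    Nat.ble (Nat.succ (app altV a)) 192 && Nat.beq (app altV (app altW a)) a &&
    Nat.beq (app altW (app altV a)) a && allFrom (fun b => Nat.beq (app altW (Alt.mul a b))
      (mulC true 0 (app altW a) (app altW b))) 192 0) 192 0 = true := by
  decide +kernel

theorem m12_table_chk : allFrom (fun a => Nat.ble (Nat.succ (app m12W a)) 192 &&
    Nat.ble (Nat.succ (app m12V a)) 192 && Nat.beq (app m12V (app m12W a)) a &&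
    Nat.beq (app m12W (app m12V a)) a && allFrom (fun b => Nat.beq (app m12W (M12.mul a b))
      (mulC false 0 (app m12W a) (app m12W b))) 192 0) 192 0 = true := by
  decide +kernel

theorem sI_chk : app altW Alt.sI = 16 ∧ app m12W M12.sI = 16 := by
  constructor <;> decide +kernel

/-- two codes commute -/
noncomputable def commC (sw : Bool) (eps u v : Nat) : Bool :=
  Nat.beq (mulC sw eps u v) (mulC sw eps v u)

/-- number of elements commuting with `e` whose square is `r` -/
noncomputable def roots (sw : Bool) (eps e r : Nat) : Nat :=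
  countFrom (fun t => commC sw eps t e && Nat.beq (mulC sw eps t t) r) 192 0

/-- size of the centralizer of `e` -/
noncomputable def centC (sw : Bool) (eps e : Nat) : Nat :=
  countFrom (fun t => commC sw eps t e) 192 0

/-- an involution other than the central one -/
noncomputable def isInv (sw : Bool) (eps e : Nat) : Bool :=
  Nat.beq (mulC sw eps e e) 0 && !Nat.beq e 0 && !Nat.beq e 16

/-- many roots of the centre for the core, few of themselves for the others -/
noncomputable def rootsGap (sw : Bool) : Bool :=
  allFrom (fun e => !isInv sw 1 e ||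
    Nat.ble (centC sw 1 e) (4 * roots sw 1 e 16)) 32 0 &&
  allFrom (fun b => !isInv sw 1 b ||
    Nat.ble (Nat.succ (4 * roots sw 1 b b)) (centC sw 1 b)) 192 0

theorem rootsGap_chk : rootsGap true = true ∧ rootsGap false = true := by
  constructor <;> decide +kernel

end Cfsg.Agent.H80.Types
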